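import Cfsg.Agent.Chev.TriTorus.Weyl

/-! The character of the torus of order `(q ^ 3 - 1) * (q + 1)` on the allowed vectors. -/

set_option autoImplicit false

namespace Cfsg.Lib.Chev.TriTorus

/-- The exponent of the generator on a weight vector. -/
def val (q : ℤ) (d : ℤ × ℤ × ℤ × ℤ) : ℤ :=
  d.1 + d.2.1 * (1 - q ^ 3) + d.2.2.1 * (q + 1 - q ^ 3) + d.2.2.2 * q ^ 2

theorem dvd_residues {q : ℤ} {d : ℤ × ℤ × ℤ × ℤ} (h : (q ^ 3 - 1) * (q + 1) ∣ val q d) :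
    q ^ 3 - 1 ∣ d.1 + d.2.2.1 * q + d.2.2.2 * q ^ 2 ∧ q + 1 ∣ d.1 + 2 * d.2.1 + d.2.2.1 + d.2.2.2 := by
  constructor
  · have h1 := dvd_trans (dvd_mul_right _ (q + 1)) h
    have e : d.1 + d.2.2.1 * q + d.2.2.2 * q ^ 2 = val q d + (q ^ 3 - 1) * (d.2.1 + d.2.2.1) := by
      unfold val; ring
    rw [e]; exact dvd_add h1 (dvd_mul_right _ _)
  · have h1 := dvd_trans (dvd_mul_left _ (q ^ 3 - 1)) h
    have e : d.1 + 2 * d.2.1 + d.2.2.1 + d.2.2.2 = val q d + (q + 1) *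
        (d.2.1 * (q ^ 2 - q + 1) + d.2.2.1 * (q ^ 2 - q) - d.2.2.2 * (q - 1)) := by
      unfold val; ring
    rw [e]; exact dvd_add h1 (dvd_mul_right _ _)

/-- Certificate of the bounds and of the small cases. -/
noncomputable def okAllowed : Bool :=
  kall (fun d : ℤ × ℤ × ℤ × ℤ => decide (|d.1| ≤ 4 ∧ |d.2.1| ≤ 4 ∧ |d.2.2.1| ≤ 4 ∧ |d.2.2.2| ≤ 4) &&
    decide (d.1 = 0 → d.2.2.1 = 0 → d.2.2.2 = 0 → d.2.1 ≠ 0) &&
    kall (fun q : ℕ => decide (val q d % (((q : ℤ) ^ 3 - 1) * ((q : ℤ) + 1)) ≠ 0)) (krange 2 7)) allowed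

theorem okAllowed_eq : okAllowed = true := by decide +kernel

theorem not_dvd_val {q : ℕ} (hq : 2 ≤ q) {d : ℤ × ℤ × ℤ × ℤ} (hd : d ∈ allowed) :
    ¬ ((q : ℤ) ^ 3 - 1) * ((q : ℤ) + 1) ∣ val q d := by
  intro h
  obtain ⟨h1, h2⟩ := dvd_residues h
  have hok := okAllowed_eq
  simp only [okAllowed, kall_iff, Bool.and_eq_true, Bool.or_eq_true, decide_eq_true_eq] at hok
  obtain ⟨⟨⟨ha, hb, hc, he⟩, hz⟩, hs⟩ := hok d hd
  rw [abs_le] at ha hb hc he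
  by_cases hq9 : q < 9
  · exact hs q (by rw [krange_eq, List.mem_range'_1]; omega) (Int.emod_eq_zero_of_dvd h)
  · have hq' : (9 : ℤ) ≤ q := by exact_mod_cast Nat.le_of_not_lt hq9
    have hsq : 9 * (q : ℤ) ≤ (q : ℤ) ^ 2 := by nlinarith
    have hcu : 9 * (q : ℤ) ^ 2 ≤ (q : ℤ) ^ 3 := by nlinarith
    have hc1 : -(4 * (q : ℤ)) ≤ d.2.2.1 * q ∧ d.2.2.1 * (q : ℤ) ≤ 4 * q := ⟨by nlinarith, by nlinarith⟩
    have he1 : -(4 * (q : ℤ) ^ 2) ≤ d.2.2.2 * (q : ℤ) ^ 2 ∧ d.2.2.2 * (q : ℤ) ^ 2 ≤ 4 * (q : ℤ) ^ 2 :=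
      ⟨by nlinarith, by nlinarith⟩
    have hv := Int.eq_zero_of_abs_lt_dvd h1 (by rw [abs_lt]; constructor <;> linarith)
    have e0 : d.2.2.2 = 0 := by
      rcases lt_trichotomy d.2.2.2 0 with h | h | h
      · nlinarith [mul_le_mul_of_nonneg_right (show d.2.2.2 ≤ -1 by omega) (sq_nonneg (q : ℤ))]
      · exact h
      · nlinarith [mul_le_mul_of_nonneg_right (show 1 ≤ d.2.2.2 by omega) (sq_nonneg (q : ℤ))]
    rw [e0, zero_mul, add_zero] at hv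
    have c0 : d.2.2.1 = 0 := by
      rcases lt_trichotomy d.2.2.1 0 with h | h | h
      · nlinarith
      · exact h
      · nlinarith
    rw [c0, zero_mul, add_zero] at hv
    rw [hv, c0, e0, zero_add, add_zero, add_zero] at h2
    have hb0 := Int.eq_zero_of_abs_lt_dvd h2 (by rw [abs_lt]; constructor <;> linarith)
    exact hz hv c0 e0 (by omega)

end Cfsg.Lib.Chev.TriTorus
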