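import Cfsg.Agent.Chev.Types
import Cfsg.Agent.Chev.SL2

/-! Type `D4`: the subgroup of the highest root, and its action of the torus. -/

set_option autoImplicit false
set_option linter.unusedSectionVars false
set_option linter.style.haveILetI false

open Cfsg.Lie

namespace Cfsg.Lib.Chev.TriTorus

open Matrix

variable {L : Type*} [Field L]

/-- Four coordinates. -/
def v4 {M : Type*} (a b c d : M) : Fin chevD4.rank → M := (![a, b, c, d] : Fin 4 → M)

theorem eq_v4 {M : Type*} (c : Fin chevD4.rank → M) :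
    c = v4 (c ⟨0, by decide +kernel⟩) (c ⟨1, by decide +kernel⟩) (c ⟨2, by decide +kernel⟩) (c ⟨3, by decide +kernel⟩) := by
  refine funext fun i => ?_
  change Fin 4 at i
  fin_cases i <;> rfl

theorem v4_mul {M : Type*} [Mul M] (a b c d a' b' c' d' : M) :
    v4 a b c d * v4 a' b' c' d' = v4 (a * a') (b * b') (c * c') (d * d') := by
  refine funext fun i => ?_
  change Fin 4 at i
  fin_cases i <;> rfl

theorem v4_inv {M : Type*} [Inv M] (a b c d : M) : (v4 a b c d)⁻¹ = v4 a⁻¹ b⁻¹ c⁻¹ d⁻¹ := by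
  refine funext fun i => ?_
  change Fin 4 at i
  fin_cases i <;> rfl

theorem v4_pow {M : Type*} [Monoid M] (a b c d : M) (n : ℕ) : v4 a b c d ^ n = v4 (a ^ n) (b ^ n) (c ^ n) (d ^ n) := by
  refine funext fun i => ?_
  change Fin 4 at i
  fin_cases i <;> rfl

/-- The Cartan entries of a root. -/
def nv (s : ℕ) : ℤ × ℤ × ℤ × ℤ := (chevD4.cartan 0 s, chevD4.cartan 1 s, chevD4.cartan 2 s, chevD4.cartan 3 s)

theorem prod_v4 (a b c d : Lˣ) (s : ℕ) :
    (∏ i : Fin chevD4.rank, v4 a b c d i ^ chevD4.cartan i s : Lˣ) =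
      a ^ (nv s).1 * b ^ (nv s).2.1 * c ^ (nv s).2.2.1 * d ^ (nv s).2.2.2 := by
  show (∏ i : Fin 4, v4 a b c d i ^ chevD4.cartan i.val s : Lˣ) = _
  rw [Fin.prod_univ_four]
  rfl

theorem conj_step (i : Fin chevD4.rank) {r : ℕ} (hr : r < chevD4.nroots) {t : Lˣ} {c : Fin chevD4.rank → Lˣ}
    (h : D4.struct.ok.hG r (t : L) = Ok.tG chevD4 L c) :
    D4.struct.ok.hG (D4.cert.w i r) (t : L) =
      Ok.tG chevD4 L (c * Pi.mulSingle i (∏ j, c j ^ (-chevD4.cartan j (chevD4.simple i)))) := by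
  rw [← D4.struct.ok.conj_nG_hG i.isLt hr t.ne_zero, h, D4.struct.ok.conj_nG_tG]

theorem mulSingle_v4 {M : Type*} [One M] (x : M) :
    Pi.mulSingle (⟨0, by decide +kernel⟩ : Fin chevD4.rank) x = v4 x 1 1 1 ∧
    Pi.mulSingle (⟨1, by decide +kernel⟩ : Fin chevD4.rank) x = v4 1 x 1 1 ∧
    Pi.mulSingle (⟨2, by decide +kernel⟩ : Fin chevD4.rank) x = v4 1 1 x 1 ∧
    Pi.mulSingle (⟨3, by decide +kernel⟩ : Fin chevD4.rank) x = v4 1 1 1 x := by
  refine ⟨?_, ?_, ?_, ?_⟩ <;>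
  · refine funext fun i => ?_
    change Fin 4 at i
    fin_cases i <;> rfl

/-- The coroot of the highest root. -/
theorem hG_beta (t : Lˣ) : D4.struct.ok.hG 23 (t : L) = Ok.tG chevD4 L (v4 t (t ^ 2) t t) := by
  obtain ⟨s0, s1, s2, s3⟩ := mulSingle_v4 t
  have h0 : D4.struct.ok.hG 14 (t : L) = Ok.tG chevD4 L (v4 1 t 1 1) := by
    rw [← s1, ← D4.struct.ok.hG_simple_eq_tG ⟨1, by decide +kernel⟩ t]
    rfl
  have c0 : ∀ j, nv (chevD4.simple j) = [((2 : ℤ), (-1 : ℤ), (0 : ℤ), (0 : ℤ)), (-1, 2, -1, -1), (0, -1, 2, 0),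
      (0, -1, 0, 2)].getD j (0, 0, 0, 0) ∨ 4 ≤ j := fun j => by
    by_cases h : j < 4
    · left; interval_cases j <;> decide +kernel
    · right; omega
  have hc : ∀ (j : Fin chevD4.rank) (a b c d : Lˣ),
      (∏ k : Fin chevD4.rank, v4 a b c d k ^ (-chevD4.cartan k (chevD4.simple j))) =
      (a ^ (nv (chevD4.simple j)).1 * b ^ (nv (chevD4.simple j)).2.1 * c ^ (nv (chevD4.simple j)).2.2.1 *
        d ^ (nv (chevD4.simple j)).2.2.2)⁻¹ := fun j a b c d => by
    rw [← prod_v4, ← Finset.prod_inv_distrib]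
    exact Finset.prod_congr rfl fun k _ => _root_.zpow_neg _ _
  have h1 := conj_step ⟨0, by decide +kernel⟩ (by decide +kernel) h0
  rw [hc, (c0 0).resolve_right (by norm_num), (mulSingle_v4 _).1, v4_mul] at h1
  simp at h1
  have h2 := conj_step ⟨2, by decide +kernel⟩ (by decide +kernel) h1
  rw [hc, (c0 2).resolve_right (by norm_num), (mulSingle_v4 _).2.2.1, v4_mul] at h2
  simp at h2
  have h3 := conj_step ⟨3, by decide +kernel⟩ (by decide +kernel) h2
  rw [hc, (c0 3).resolve_right (by norm_num), (mulSingle_v4 _).2.2.2, v4_mul] at h3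
  simp at h3
  have h4 := conj_step ⟨1, by decide +kernel⟩ (by decide +kernel) h3
  rw [hc, (c0 1).resolve_right (by norm_num), (mulSingle_v4 _).2.1, v4_mul] at h4
  simp at h4
  rw [show D4.cert.w 1 (D4.cert.w 3 (D4.cert.w 2 (D4.cert.w 0 14))) = 23 by decide +kernel] at h4
  rw [h4, pow_two]
  congr 1
  simp [mul_comm, mul_left_comm]

/-- The root element of the highest root and of its negative. -/
noncomputable def xb (a : L) : GL chevD4.Idx L := D4.struct.ok.xG 23 a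

/-- The root element of the lowest root. -/
noncomputable def yb (a : L) : GL chevD4.Idx L := D4.struct.ok.xG 0 a

theorem xb_mul_yb (a b : L) {D : Lˣ} (hD : (D : L) = 1 + a * b) :
    xb a * yb b = yb (b / (D : L)) * Ok.tG chevD4 L (v4 D (D ^ 2) D D) * xb (a / (D : L)) := by
  obtain ⟨φ, h1, h2, -⟩ := D4.struct.hasSL2 (F := L) 23 (by decide +kernel)
  rw [show chevD4.neg 23 = 0 by decide +kernel] at h2
  have hd : ∀ t : Lˣ, D4.struct.ok.hG 23 (t : L) =
      φ (uM (t : L) * lM (-(t : L)⁻¹) * uM (t : L) * (uM (-1 : L) * lM (-(-1 : L)⁻¹) * uM (-1 : L))) := fun t => by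
    simp only [map_mul, h1, h2]
    rw [Ok.hG, Ok.nG, Ok.nG, show chevD4.neg 23 = 0 by decide +kernel]
  rw [← hG_beta, hd, xb, xb, yb, yb, ← h1, ← h1, ← h2, ← h2, ← map_mul, ← map_mul, ← map_mul]
  congr 1
  apply mat_inj
  have hD0 : (D : L) ≠ 0 := D.ne_zero
  have hE0 : 1 + a * b ≠ 0 := hD ▸ hD0
  ext i j
  fin_cases i <;> fin_cases j <;>
    simp [mat_mul, mat_lM, mat_uM, Matrix.mul_apply, Fin.sum_univ_two] <;> field_simp
  all_goals first | ring1 | (rw [hD]; done) | (rw [hD]; ring)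

theorem tG_conj_xb (a b c d : Lˣ) (t : L) :
    Ok.tG chevD4 L (v4 a b c d) * xb t * (Ok.tG chevD4 L (v4 a b c d))⁻¹ = xb ((b : L) * t) := by
  rw [xb, xb, D4.struct.tG_conj_xG (by decide +kernel), prod_v4, show nv 23 = (0, 1, 0, 0) by decide +kernel]
  simp

theorem tG_conj_yb (a b c d : Lˣ) (t : L) :
    Ok.tG chevD4 L (v4 a b c d) * yb t * (Ok.tG chevD4 L (v4 a b c d))⁻¹ = yb ((b : L)⁻¹ * t) := by
  rw [yb, yb, D4.struct.tG_conj_xG (by decide +kernel), prod_v4, show nv 0 = (0, -1, 0, 0) by decide +kernel]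
  simp

end Cfsg.Lib.Chev.TriTorus
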