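import Cfsg.Agent.Chev.TriTorus.Setup
import Cfsg.Agent.Chev.Tw.Simple
import Mathlib.FieldTheory.Finite.Extension

/-! A cyclic self-centralizing subgroup of order `(q ^ 3 - 1) * (q + 1)` of the triality twisted group: the non-split
torus of the highest root conjugated by an explicit element over the field with `q ^ 6` elements. -/

set_option autoImplicit false
set_option linter.unusedSectionVars false
set_option linter.style.haveILetI false
set_option maxHeartbeats 2000000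

open Cfsg.Lie

namespace Cfsg.Lib.Chev.TriTorus

open Matrix Cfsg.Lib.CyclicTorus

section Field

variable {L : Type*} [Field L] (f : L →+* L)

theorem exists_parameters {q : ℕ} (hf : ∀ t, f t = t ^ q) {u : Lˣ} (hfu : f (u : L) = (u : L)⁻¹)
    (hu1 : (u : L) ≠ 1) {η : L} (hη0 : η ≠ 0) (hη2 : f (f η) = η) (hη : f η ≠ η) (hη' : f η + η ≠ 0) :
    ∃ w κ : L, f w + w = -1 ∧ f κ = -κ ∧ κ ≠ 0 ∧ w ≠ 0 ∧ 1 + w - w / (u : L) ≠ 0 := by
  have hu0 : (u : L) ≠ 0 := u.ne_zero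
  set κ := f η - η with hκ
  have hκ0 : κ ≠ 0 := sub_ne_zero.2 hη
  have hfκ : f κ = -κ := by rw [hκ, map_sub, hη2]; ring
  set w₀ := -η / (f η + η) with hw₀
  have hfw₀ : f w₀ + w₀ = -1 := by
    rw [hw₀, map_div₀, map_neg, map_add, hη2, add_comm η (f η)]
    field_simp
    ring
  have hne : ∀ w : L, f w + w = -1 → w ≠ 0 := fun w h h0 => by
    rw [h0, map_zero, add_zero] at h
    exact one_ne_zero (neg_eq_zero.1 h.symm)
  by_cases h : 1 + w₀ - w₀ / (u : L) = 0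
  · have hw : f (w₀ + κ) + (w₀ + κ) = -1 := by rw [map_add, hfκ]; linear_combination hfw₀
    refine ⟨w₀ + κ, κ, hw, hfκ, hκ0, hne _ hw, fun h' => ?_⟩
    have : κ * (1 - ((u : L))⁻¹) = 0 := by
      rw [div_eq_mul_inv] at h h'
      linear_combination h' - h
    rcases mul_eq_zero.1 this with h1 | h1
    · exact hκ0 h1
    · exact hu1 (inv_eq_one.1 (sub_eq_zero.1 h1).symm)
  · exact ⟨w₀, κ, hfw₀, hfκ, hκ0, hne _ hfw₀, h⟩

theorem parameter_identities {u D w κ : L} (hu : u ≠ 0) (hκ0 : κ ≠ 0) (hD : D = 1 + w - w / u) (hD0 : D ≠ 0)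
    (hfu : f u = u⁻¹) (hw : f w + w = -1) (hκ : f κ = -κ) :
    D = 1 + κ⁻¹ * (1 - u) * (-(w * κ) / u) ∧ f D = u * D ∧
      f (w * κ + -(w * κ) / u / D) = w * κ + -(w * κ) / u / D ∧
      f (κ⁻¹ * (1 - u) / D / u) = κ⁻¹ * (1 - u) / D / u := by
  have hfw : f w = -1 - w := by linear_combination hw
  have hfD : f D = u * D := by
    rw [hD, map_sub, map_add, map_one, map_div₀, hfu, hfw]
    field_simp
    ring
  have hDu : u * D = u + u * w - w := by rw [hD]; field_simp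
  refine ⟨?_, hfD, ?_, ?_⟩
  · rw [hD]; field_simp; ring
  · simp only [map_add, map_div₀, map_neg, map_mul, hfu, hfD, hκ, hfw]
    field_simp
    linear_combination hDu
  · simp only [map_div₀, map_mul, map_inv₀, map_sub, map_one, hfu, hfD, hκ]
    field_simp
    ring

/-- The shape of a conjugate of a torus element. -/
theorem conj_torus {a b c d : Lˣ} {r s : L} {D : Lˣ}
    (hD : (D : L) = 1 + r * (1 - (b : L)) * (-s / (b : L))) :
    yb s * xb r * Ok.tG chevD4 L (v4 a b c d) * (yb s * xb r)⁻¹ =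
      yb (s + -s / (b : L) / (D : L)) * Ok.tG chevD4 L (v4 D (D ^ 2) D D * v4 a b c d) *
        xb (r * (1 - (b : L)) / (D : L) / (b : L)) := by
  have hxn : ∀ t : L, (xb t)⁻¹ = xb (-t) := fun t => D4.struct.ok.xG_inv _ _
  have hyn : ∀ t : L, (yb t)⁻¹ = yb (-t) := fun t => D4.struct.ok.xG_inv _ _
  have hxm : ∀ t t' : L, xb t * xb t' = xb (t + t') := fun t t' => D4.struct.ok.xG_mul _ _ _
  have hym : ∀ t t' : L, yb t * yb t' = yb (t + t') := fun t t' => D4.struct.ok.xG_mul _ _ _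
  set T := Ok.tG chevD4 L (v4 a b c d)
  have e1 : T * xb (-r) = xb ((b : L) * -r) * T := by rw [← tG_conj_xb a b c d, inv_mul_cancel_right]
  have e2 : T * yb (-s) = yb ((b : L)⁻¹ * -s) * T := by rw [← tG_conj_yb a b c d, inv_mul_cancel_right]
  have e3 : T * xb (r * (1 - (b : L)) / (D : L) / (b : L)) = xb (r * (1 - (b : L)) / (D : L)) * T := by
    rw [← inv_mul_cancel_right (T * xb _) T, tG_conj_xb]
    congr 2
    field_simp
  rw [_root_.mul_inv_rev, hxn, hyn, map_mul, show yb s * xb r * T * (xb (-r) * yb (-s)) =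
    yb s * xb r * (T * xb (-r)) * yb (-s) by group, e1, show yb s * xb r * (xb ((b : L) * -r) * T) * yb (-s) =
    yb s * (xb r * xb ((b : L) * -r)) * (T * yb (-s)) by group, e2, hxm,
    show r + (b : L) * -r = r * (1 - (b : L)) by ring, show (b : L)⁻¹ * -s = -s / (b : L) by ring,
    show yb s * xb (r * (1 - (b : L))) * (yb (-s / (b : L)) * T) =
      yb s * (xb (r * (1 - (b : L))) * yb (-s / (b : L))) * T by group, xb_mul_yb _ _ hD,
    ← hym, show yb s * yb (-s / (b : L) / (D : L)) * (Ok.tG chevD4 L (v4 D (D ^ 2) D D) * T) *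
      xb (r * (1 - (b : L)) / (D : L) / (b : L)) = yb s * yb (-s / (b : L) / (D : L)) *
        Ok.tG chevD4 L (v4 D (D ^ 2) D D) * (T * xb (r * (1 - (b : L)) / (D : L) / (b : L))) by group, e3]
  group

end Field

variable {K : Type*} [Field K] [Fintype K]

theorem mem_twisted (X : Tw chevD4 chevG2 D4.cert G2.cert D4.tw D4.htTab K) {l m : K} (hl : l ^ X.q = l)
    (hm : m ^ X.q = m) {a b c d : Kˣ} (ha : a ^ X.q = c) (hb : b ^ X.q = b) (hc : c ^ X.q = d) (hd : d ^ X.q = a) :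
    D4.struct.ok.xG 0 l * Ok.tG chevD4 K (v4 a b c d) * D4.struct.ok.xG 23 m ∈ twistedD4 K X.q := by
  rw [← D4.G1_eq X]
  have h23 : D4.tw.G.rho chevD4.rank 23 = 23 ∧ D4.tw.G.eps chevD4.rank 23 = 1 := by decide +kernel
  have hx : ∀ t : K, t ^ X.q = t → X.S.ok.xG 23 t ∈ X.G1 := fun t ht =>
    X.xG_fixed_mem_G1 (by decide +kernel) (by decide +kernel) h23.1
      (by show ((D4.tw.G.eps chevD4.rank 23 : ℤ) : K) = 1; rw [h23.2, Int.cast_one]) (by rw [X.hfq, ht])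
  let w₀ : List (Fin D4.tw.nO) := [⟨0, by decide +kernel⟩, ⟨1, by decide +kernel⟩, ⟨0, by decide +kernel⟩,
    ⟨1, by decide +kernel⟩, ⟨0, by decide +kernel⟩, ⟨1, by decide +kernel⟩]
  have hflat : (X.flatW w₀).map Fin.val = [0, 2, 3, 1, 0, 2, 3, 1, 0, 2, 3, 1] := by
    simp only [Tw.flatW, w₀, Tw.orbF, List.flatMap_cons, List.flatMap_nil]
    decide +kernel
  have hy : ∀ t : K, t ^ X.q = t → X.S.ok.xG 0 t ∈ X.G1 := by
    intro t ht
    have hw : D4.cert.wL [0, 2, 3, 1, 0, 2, 3, 1, 0, 2, 3, 1] 23 = 0 ∧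
        (D4.cert.sgnL [0, 2, 3, 1, 0, 2, 3, 1, 0, 2, 3, 1] 23 = 1 ∨
          D4.cert.sgnL [0, 2, 3, 1, 0, 2, 3, 1, 0, 2, 3, 1] 23 = -1) := by decide +kernel
    set η : ℤ := D4.cert.sgnL [0, 2, 3, 1, 0, 2, 3, 1, 0, 2, 3, 1] 23 with hη
    have hηη : (η : K) * (η : K) = 1 := by rcases hw.2 with h | h <;> simp [h]
    have hfix : ((η : K) * t) ^ X.q = (η : K) * t := by
      rw [← X.hfq, map_mul, map_intCast, X.hfq, ht]
    have h1 := mul_mem (mul_mem (X.N1_le_G1 (X.nW_mem_N1 w₀)) (hx _ hfix))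
      (inv_mem (X.N1_le_G1 (X.nW_mem_N1 w₀)))
    rw [Tw.nW, X.S.nL_conj (X.flatW w₀) (by decide +kernel : (23 : ℕ) < chevD4.nroots), hflat, hw.1, ← hη,
      ← mul_assoc, hηη, one_mul] at h1
    exact h1
  refine mul_mem (mul_mem (hy l hl) (X.T1_le_G1 ⟨v4 a b c d, ?_, rfl⟩)) (hx m hm)
  have hpi : ∀ i : Fin 4, D4.tw.piAt i.val = ([2, 1, 3, 0] : List ℕ).getD i.val 0 := by decide +kernel
  intro i
  rw [X.hfq, ← Units.val_pow_eq_pow_val]
  congr 1
  have hi : (X.piF i).val = ([2, 1, 3, 0] : List ℕ).getD i.val 0 := by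
    exact hpi i
  revert hi
  generalize X.piF i = j
  intro hj
  change Fin 4 at i j
  fin_cases i <;> fin_cases j <;> simp_all [v4]

theorem exists_selfcent (q : ℕ) (hq : IsPrimePow q) (hK : Fintype.card K = q ^ 3) :
    ∃ H : Subgroup ↥(twistedD4 K q), IsCyclic ↥H ∧ Nat.card ↥H = (q ^ 3 - 1) * (q + 1) ∧
      Subgroup.centralizer (H : Set ↥(twistedD4 K q)) = H := by
  classical
  obtain ⟨X, rfl⟩ := D4.exists_tw hq hK
  set q := X.q with hqdef
  have hq2 : 2 ≤ q := X.hq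
  obtain ⟨p, hp⟩ := CharP.exists K
  haveI : Fact p.Prime := ⟨CharP.char_is_prime K p⟩
  let L := FiniteField.Extension K p 2
  haveI : Fintype L := Fintype.ofFinite L
  have hL : Fintype.card L = q ^ 6 := by
    rw [← Nat.card_eq_fintype_card, FiniteField.natCard_extension, Nat.card_eq_fintype_card, hK, ← pow_mul]
  obtain ⟨f, hf⟩ := exists_pow_hom (K := L) hq (by norm_num : (6 : ℕ) ≠ 0) hL
  have hq3K : ∀ t : K, ((t ^ q) ^ q) ^ q = t := fun t => by
    rw [← pow_mul, ← pow_mul, show q * (q * q) = Fintype.card K by rw [hK]; ring, FiniteField.pow_card]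
  have hq3 : q * q * q = q ^ 3 := by ring
  have hrange : ∀ z : L, z ^ q ^ 3 = z → ∃ u : K, algebraMap K L u = z := by
    intro z hz
    by_contra hno
    push Not at hno
    have hq1 : 1 < q ^ 3 := Nat.one_lt_pow (by norm_num) hq2
    let P : Polynomial L := Polynomial.X ^ (q ^ 3) - Polynomial.X
    have hsub : insert z (Finset.univ.image (algebraMap K L)) ⊆ P.roots.toFinset := by
      intro u hu
      rw [Multiset.mem_toFinset, Polynomial.mem_roots (FiniteField.X_pow_card_sub_X_ne_zero L hq1),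
        Polynomial.IsRoot.def]
      rcases Finset.mem_insert.1 hu with rfl | hu
      · simp [hz]
      · obtain ⟨a, -, rfl⟩ := Finset.mem_image.1 hu
        simp [← map_pow, ← hK, FiniteField.pow_card]
    have h1 := (Finset.card_le_card hsub).trans (P.roots.toFinset_card_le.trans (Polynomial.card_roots' P))
    rw [Finset.card_insert_of_notMem (by
        rw [Finset.mem_image]; rintro ⟨a, -, e⟩; exact hno a e),
      Finset.card_image_of_injective _ (algebraMap K L).injective, Finset.card_univ, hK,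
      FiniteField.X_pow_card_sub_X_natDegree_eq L hq1] at h1
    omega
  -- the generator
  obtain ⟨ζ, hgen⟩ := IsCyclic.exists_generator (α := Lˣ)
  have hζ : (orderOf ζ : ℤ) = (q : ℤ) ^ 6 - 1 := by
    rw [orderOf_eq_card_of_forall_mem_zpowers hgen, Nat.card_units, Nat.card_eq_fintype_card, hL,
      Nat.cast_sub (Nat.one_le_pow _ _ (by omega))]
    simp
  set Mi : ℤ := ((q : ℤ) ^ 3 - 1) * ((q : ℤ) + 1) with hMi
  set k₀ : ℤ := (q : ℤ) ^ 2 - q + 1 with hk₀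
  have hk₀pos : 0 < k₀ := by rw [hk₀]; nlinarith
  have hkM : k₀ * Mi = (orderOf ζ : ℤ) := by rw [hζ, hk₀, hMi]; ring
  have hz1 : ∀ v : ℤ, ζ ^ (k₀ * v) = 1 ↔ Mi ∣ v := fun v => by
    rw [← orderOf_dvd_iff_zpow_eq_one, ← hkM, mul_dvd_mul_iff_left hk₀pos.ne']
  have hzeq : ∀ v v' : ℤ, ζ ^ (k₀ * v) = ζ ^ (k₀ * v') ↔ Mi ∣ v - v' := fun v v' => by
    rw [← hz1, mul_sub, _root_.zpow_sub, ← div_eq_mul_inv, div_eq_one]
  let e₁ : Fin chevD4.rank → ℤ :=
    v4 k₀ (k₀ * (1 - (q : ℤ) ^ 3)) (k₀ * ((q : ℤ) + 1 - (q : ℤ) ^ 3)) (k₀ * (q : ℤ) ^ 2)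
  have hchi : ∀ s : ℕ, chiZ chevD4 s e₁ = k₀ * val q (nv s) := fun s => by
    rw [chiZ_eq_sum, val]
    ring
  have hnv : ∀ s : Fin chevD4.nroots, nv s ∈ allowed := fun s => List.mem_cons_of_mem _
    (List.mem_append_left _ (List.mem_map.2 ⟨s, List.mem_range.2 s.isLt, rfl⟩))
  have hreg : ∀ s : Fin chevD4.nroots, ζ ^ chiZ chevD4 s e₁ ≠ 1 := fun s h => by
    rw [hchi, hz1] at h
    exact not_dvd_val hq2 (hnv s) h
  have hstab : ∀ W : List (Fin chevD4.rank),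
      (∀ s, ζ ^ chiZ chevD4 (D4.struct.wpL W s) e₁ = ζ ^ chiZ chevD4 s e₁) → D4.struct.wpL W = 1 := by
    intro W hW
    by_contra hne
    obtain ⟨s, hs⟩ := exists_move W hne
    have h1 := hW s
    rw [hchi, hchi, hzeq] at h1
    refine not_dvd_val hq2 hs ?_
    convert h1 using 1
    simp only [val]
    ring
  -- the parameters
  set ξ : Lˣ := ζ ^ k₀ with hξ
  set U : Lˣ := ζ ^ (k₀ * (1 - (q : ℤ) ^ 3)) with hUdef
  set C₁ : Lˣ := ζ ^ (k₀ * ((q : ℤ) + 1 - (q : ℤ) ^ 3)) with hC₁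
  set E₁ : Lˣ := ζ ^ (k₀ * (q : ℤ) ^ 2) with hE₁
  have hcs : zc ζ e₁ = v4 ξ U C₁ E₁ := by
    refine funext fun i => ?_
    change Fin 4 at i
    fin_cases i <;> rfl
  have hpw : ∀ v : ℤ, (ζ ^ v) ^ q = ζ ^ (v * q) := fun v => by rw [← zpow_natCast, ← _root_.zpow_mul]
  have hfU : f ((U : Lˣ) : L) = ((U : Lˣ) : L)⁻¹ := by
    rw [hf, ← Units.val_pow_eq_pow_val, ← Units.val_inv_eq_inv_val, hUdef, hpw, ← _root_.zpow_neg,
      show k₀ * (1 - (q : ℤ) ^ 3) * q = k₀ * ((1 - (q : ℤ) ^ 3) * q) by ring,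
      show -(k₀ * (1 - (q : ℤ) ^ 3)) = k₀ * -(1 - (q : ℤ) ^ 3) by ring]
    congr 1
    rw [hzeq]
    exact ⟨-1, by rw [hMi]; ring⟩
  have hU1 : ((U : Lˣ) : L) ≠ 1 := fun h => by
    have h' : U = 1 := Units.ext h
    rw [hUdef, hz1, hMi] at h'
    obtain ⟨c, hc⟩ := h'
    have h3 : (1 : ℤ) + ((q : ℤ) + 1) * c = 0 := by
      have h4 : ((q : ℤ) ^ 3 - 1) * (1 + ((q : ℤ) + 1) * c) = 0 := by linear_combination -hc
      have h8 : (8 : ℤ) ≤ (q : ℤ) ^ 3 := by exact_mod_cast Nat.pow_le_pow_left hq2 3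
      exact (mul_eq_zero.1 h4).resolve_left (by linarith)
    have h5 : ((q : ℤ) + 1) ∣ 1 := ⟨-c, by linear_combination h3⟩
    have := Int.le_of_dvd one_pos h5
    omega
  -- an element generating the quadratic subfield
  set k₁ : ℤ := (q : ℤ) ^ 4 + (q : ℤ) ^ 2 + 1 with hk₁
  have hk₁pos : 0 < k₁ := by positivity
  have hz2 : ∀ v : ℤ, ζ ^ (k₁ * v) = 1 ↔ ((q : ℤ) ^ 2 - 1) ∣ v := fun v => by
    rw [← orderOf_dvd_iff_zpow_eq_one, hζ, show (q : ℤ) ^ 6 - 1 = k₁ * ((q : ℤ) ^ 2 - 1) by rw [hk₁]; ring,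
      mul_dvd_mul_iff_left hk₁pos.ne']
  set η : Lˣ := ζ ^ k₁ with hη
  have hη2 : f (f (η : L)) = η := by
    rw [hf, hf, ← Units.val_pow_eq_pow_val, ← Units.val_pow_eq_pow_val, hη, hpw, hpw]
    congr 1
    rw [← mul_inv_eq_one, ← _root_.zpow_neg, ← _root_.zpow_add,
      show k₁ * q * q + -k₁ = k₁ * ((q : ℤ) * q - 1) by ring, hz2]
    exact ⟨1, by ring⟩
  have hη1 : f (η : L) ≠ η := fun h => by
    rw [hf, ← Units.val_pow_eq_pow_val, Units.val_inj, hη, hpw, ← mul_inv_eq_one, ← _root_.zpow_neg,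
      ← _root_.zpow_add, show k₁ * q + -k₁ = k₁ * ((q : ℤ) - 1) by ring, hz2] at h
    have := Int.le_of_dvd (by omega) h
    nlinarith
  have hη3 : f (η : L) + η ≠ 0 := fun h => by
    have h' : (η ^ q) ^ 2 = η ^ 2 := Units.ext (by
      rw [Units.val_pow_eq_pow_val, Units.val_pow_eq_pow_val, Units.val_pow_eq_pow_val, ← hf]
      rw [eq_neg_of_add_eq_zero_left h, neg_sq])
    rw [hη, hpw, ← zpow_natCast, ← zpow_natCast, ← _root_.zpow_mul, ← _root_.zpow_mul, ← mul_inv_eq_one,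
      ← _root_.zpow_neg, ← _root_.zpow_add,
      show k₁ * q * ((2 : ℕ) : ℤ) + -(k₁ * ((2 : ℕ) : ℤ)) = k₁ * (2 * ((q : ℤ) - 1)) by push_cast; ring, hz2] at h'
    have := Int.le_of_dvd (by omega) h'
    nlinarith
  obtain ⟨w, κ, hw, hκ, hκ0, hw0, hD0⟩ := exists_parameters f hf hfU hU1 η.ne_zero hη2 hη1 hη3
  have hU0 : (U : L) ≠ 0 := U.ne_zero
  have hfw : f w = -1 - w := by linear_combination hw
  set D : Lˣ := Units.mk0 _ hD0 with hDdef
  have hDv : (D : L) = 1 + w - w / (U : L) := rfl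
  obtain ⟨hDeq, hfD, hfl, hfm⟩ := parameter_identities f hU0 hκ0 hDv D.ne_zero hfU hw hκ
  set g : GL chevD4.Idx L := yb (w * κ) * xb κ⁻¹ with hg
  have hgG : g ∈ chevD4.group L :=
    mul_mem (D4.struct.ok.xG_mem_group _ _) (D4.struct.ok.xG_mem_group _ _)
  set t := te chevD4 ζ e₁ with ht
  have htv : t = Ok.tG chevD4 L (v4 ξ U C₁ E₁) := by rw [ht, te, hcs]
  set l : L := w * κ + -(w * κ) / (U : L) / (D : L) with hl
  set m : L := κ⁻¹ * (1 - (U : L)) / (D : L) / (U : L) with hm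
  have hconj : g * t * g⁻¹ = yb l * Ok.tG chevD4 L (v4 D (D ^ 2) D D * v4 ξ U C₁ E₁) * xb m := by
    rw [htv, hg]; exact conj_torus hDeq
  -- rationality
  have hfixK : ∀ z : L, f z = z → ∃ u : K, algebraMap K L u = z ∧ u ^ q = u := by
    intro z hz
    rw [hf] at hz
    obtain ⟨u, hu⟩ := hrange z (by rw [← hq3, pow_mul, pow_mul, hz, hz, hz])
    exact ⟨u, hu, (algebraMap K L).injective (by rw [map_pow, hu, hz])⟩
  obtain ⟨lK, hlK, hlq⟩ := hfixK l hfl
  obtain ⟨mK, hmK, hmq⟩ := hfixK m hfm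
  have hDq : D ^ q = U * D := Units.ext (by rw [Units.val_pow_eq_pow_val, ← hf, hfD, Units.val_mul])
  have hξ1 : (ξ ^ q) * U = C₁ ∧ C₁ ^ q * U = E₁ ∧ E₁ ^ q * U = ξ ∧ U ^ q * U = 1 := by
    refine ⟨?_, ?_, ?_, ?_⟩ <;>
      rw [← mul_inv_eq_one] <;>
      simp only [hξ, hUdef, hC₁, hE₁, hpw, inv_one, mul_one, ← _root_.zpow_neg, ← _root_.zpow_add]
    · rw [show k₀ * (q : ℤ) + k₀ * (1 - (q : ℤ) ^ 3) + -(k₀ * ((q : ℤ) + 1 - (q : ℤ) ^ 3)) = k₀ * 0 by ring, hz1]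
      exact dvd_zero _
    · rw [show k₀ * ((q : ℤ) + 1 - (q : ℤ) ^ 3) * q + k₀ * (1 - (q : ℤ) ^ 3) + -(k₀ * (q : ℤ) ^ 2) =
        k₀ * (((q : ℤ) + 1 - (q : ℤ) ^ 3) * q + (1 - (q : ℤ) ^ 3) - (q : ℤ) ^ 2) by ring, hz1]
      exact ⟨-1, by rw [hMi]; ring⟩
    · rw [show k₀ * (q : ℤ) ^ 2 * q + k₀ * (1 - (q : ℤ) ^ 3) + -k₀ = k₀ * 0 by ring, hz1]
      exact dvd_zero _
    · rw [show k₀ * (1 - (q : ℤ) ^ 3) * q + k₀ * (1 - (q : ℤ) ^ 3) =
        k₀ * ((1 - (q : ℤ) ^ 3) * q + (1 - (q : ℤ) ^ 3)) by ring, hz1]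
      exact ⟨-1, by rw [hMi]; ring⟩
  obtain ⟨hC, hE, hA, hB⟩ := hξ1
  have p1 : (D * ξ) ^ q = D * C₁ := by rw [mul_pow, hDq, ← hC]; ac_rfl
  have p2 : (D ^ 2 * U) ^ q = D ^ 2 * U := by
    rw [mul_pow, ← pow_mul, mul_comm 2 q, pow_mul, hDq, mul_pow, eq_inv_of_mul_eq_one_left hB, pow_two U, mul_comm (U * U) (D ^ 2),
      mul_assoc, mul_assoc, mul_inv_cancel, mul_one]
  have p3 : (D * C₁) ^ q = D * E₁ := by rw [mul_pow, hDq, ← hE]; ac_rfl
  have p4 : (D * E₁) ^ q = D * ξ := by rw [mul_pow, hDq, ← hA]; ac_rfl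
  have hunit : ∀ z : Lˣ, z ^ q ^ 3 = z → ∃ u : Kˣ, Units.map (algebraMap K L : K →* L) u = z := by
    intro z hz
    obtain ⟨u, hu⟩ := hrange (z : L) (by rw [← Units.val_pow_eq_pow_val, hz])
    have hu0 : u ≠ 0 := fun h => z.ne_zero (by rw [← hu, h, map_zero])
    exact ⟨Units.mk0 u hu0, Units.ext hu⟩
  obtain ⟨A', hA'⟩ := hunit (D * ξ) (by rw [← hq3, pow_mul, pow_mul, p1, p3, p4])
  obtain ⟨B', hB'⟩ := hunit (D ^ 2 * U) (by rw [← hq3, pow_mul, pow_mul, p2, p2, p2])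
  obtain ⟨C', hC'⟩ := hunit (D * C₁) (by rw [← hq3, pow_mul, pow_mul, p3, p4, p1])
  obtain ⟨E', hE'⟩ := hunit (D * E₁) (by rw [← hq3, pow_mul, pow_mul, p4, p1, p3])
  have hinjU : Function.Injective (Units.map (algebraMap K L : K →* L)) :=
    Units.map_injective (algebraMap K L).injective
  have hmem := mem_twisted X hlq hmq (a := A') (b := B') (c := C') (d := E')
    (hinjU (by rw [map_pow, hA', hC', p1])) (hinjU (by rw [map_pow, hB', p2]))
    (hinjU (by rw [map_pow, hC', hE', p3])) (hinjU (by rw [map_pow, hE', hA', p4]))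
  let h₀ : ↥(twistedD4 K q) := ⟨_, hmem⟩
  have hext : ext (L := L) (h₀ : GL chevD4.Idx K) = g * t * g⁻¹ := by
    show ext (D4.struct.ok.xG 0 lK * Ok.tG chevD4 K (v4 A' B' C' E') * D4.struct.ok.xG 23 mK) = _
    rw [hconj, map_mul, map_mul, ext_xG, ext_xG, ext_tG, hlK, hmK, v4_mul]
    congr 3
    refine funext fun i => ?_
    change Fin 4 at i
    fin_cases i <;> assumption
  have hordpow : ∀ j : ℕ, h₀ ^ j = 1 ↔ Mi ∣ (j : ℤ) := by
    intro j
    have e : h₀ ^ j = 1 ↔ t ^ j = 1 := by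
      have e2 : ext (L := L) ((h₀ ^ j : ↥(twistedD4 K q)) : GL chevD4.Idx K) = g * t ^ j * g⁻¹ := by
        rw [SubgroupClass.coe_pow, map_pow, hext, conj_pow]
      constructor
      · intro h
        rw [h, OneMemClass.coe_one, map_one, eq_comm, mul_inv_eq_one, mul_eq_left] at e2
        exact e2
      · intro h
        refine Subtype.ext (ext_injective (L := L) ?_)
        rw [e2, h, mul_one, mul_inv_cancel, OneMemClass.coe_one, map_one]
    rw [e, ht, te, ← map_pow, St.tG_eq_one_iff]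
    have hrt : ∀ s : Fin chevD4.nroots, (∏ i, (zc ζ e₁ ^ j) i ^ chevD4.cartan i s : Lˣ) =
        ζ ^ (k₀ * ((j : ℤ) * val q (nv s))) := fun s => by
      rw [show (zc ζ e₁ ^ j) = zc ζ ((j : ℤ) • e₁) from funext fun i => by
        simp only [Pi.pow_apply, zc, Pi.smul_apply, smul_eq_mul]
        rw [← zpow_natCast, ← _root_.zpow_mul, mul_comm], prod_zc,
        show chiZ chevD4 s ((j : ℤ) • e₁) = (j : ℤ) * chiZ chevD4 s e₁ by simp [chiZ, Finset.mul_sum, mul_left_comm],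
        hchi]
      congr 1
      ring
    constructor
    · intro h
      have r23 := h ⟨23, by decide +kernel⟩
      have r18 := h ⟨18, by decide +kernel⟩
      have r20 := h ⟨20, by decide +kernel⟩
      rw [hrt, hz1] at r23 r18 r20
      rw [show nv 23 = (0, 1, 0, 0) by decide +kernel] at r23
      rw [show nv 18 = (2, -1, 0, 0) by decide +kernel] at r18
      rw [show nv 20 = (1, 0, -1, 1) by decide +kernel] at r20
      have h2 : Mi ∣ 2 * (j : ℤ) := by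
        have h5 := dvd_add r23 r18
        rwa [show (j : ℤ) * val q (0, 1, 0, 0) + (j : ℤ) * val q (2, -1, 0, 0) = 2 * (j : ℤ) by
          simp only [val]; ring] at h5
      have h3 : Mi ∣ (j : ℤ) * ((q : ℤ) ^ 3 + (q : ℤ) ^ 2 - q) := by
        rwa [show (j : ℤ) * val q (1, 0, -1, 1) = (j : ℤ) * ((q : ℤ) ^ 3 + (q : ℤ) ^ 2 - q) by
          simp only [val]; ring] at r20
      rcases Int.even_or_odd (q : ℤ) with ⟨a, ha⟩ | ⟨a, ha⟩
      · have hMo : ∃ b, Mi = 2 * b + 1 := ⟨8 * a ^ 4 + 4 * a ^ 3 - a - 1, by rw [hMi, ha]; ring⟩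
        obtain ⟨b, hb⟩ := hMo
        have h5 := dvd_sub (dvd_mul_left Mi (j : ℤ)) (h2.mul_left b)
        rwa [show (j : ℤ) * Mi - b * (2 * (j : ℤ)) = j by rw [hb]; ring] at h5
      · have hEo : ∃ b, (q : ℤ) ^ 3 + (q : ℤ) ^ 2 - q = 2 * b + 1 :=
          ⟨4 * a ^ 3 + 8 * a ^ 2 + 4 * a, by rw [ha]; ring⟩
        obtain ⟨b, hb⟩ := hEo
        have h5 := dvd_sub h3 (h2.mul_left b)
        rwa [show (j : ℤ) * ((q : ℤ) ^ 3 + (q : ℤ) ^ 2 - q) - b * (2 * (j : ℤ)) = j by rw [hb]; ring] at h5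
    · intro h s
      rw [hrt, hz1]
      exact h.mul_right _
  have hMnat : ((((q ^ 3 - 1) * (q + 1) : ℕ)) : ℤ) = Mi := by
    rw [hMi, Nat.cast_mul, Nat.cast_sub (Nat.one_le_pow _ _ (by omega))]
    push_cast; ring
  have hord : orderOf h₀ = (q ^ 3 - 1) * (q + 1) := by
    refine Nat.dvd_antisymm (orderOf_dvd_of_pow_eq_one ((hordpow _).2 (by rw [hMnat]))) ?_
    rw [← Int.natCast_dvd_natCast, hMnat]
    exact (hordpow _).1 (pow_orderOf_eq_one _)
  -- the twisting element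
  have htw := fun (z : GL chevD4.Idx K) (hz : z ∈ twistedD4 K q) => twisted_ext (L := L) f hf hq3K hz
  set n := g⁻¹ * sgm f g with hn
  have hnG : n ∈ chevD4.group L := mul_mem (inv_mem hgG) (sgm_group f hgG)
  have hsgte : ∀ a b c d : ℤ, sgm f (te chevD4 ζ (v4 a b c d)) =
      te chevD4 ζ (v4 ((q : ℤ) * d) ((q : ℤ) * b) ((q : ℤ) * a) ((q : ℤ) * c)) := by
    intro a b c d
    rw [te, te, show zc ζ (v4 a b c d) = v4 (ζ ^ a) (ζ ^ b) (ζ ^ c) (ζ ^ d) from funext fun i => by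
      change Fin 4 at i; fin_cases i <;> rfl, sgm_tG f hf]
    congr 1
    refine funext fun i => ?_
    change Fin 4 at i
    fin_cases i <;> exact (hpw _).trans (congrArg (ζ ^ ·) (mul_comm _ _))
  have he₁ : e₁ = v4 k₀ (k₀ * (1 - (q : ℤ) ^ 3)) (k₀ * ((q : ℤ) + 1 - (q : ℤ) ^ 3)) (k₀ * (q : ℤ) ^ 2) := rfl
  set y' : Fin chevD4.rank → ℤ := v4 ((q : ℤ) * (k₀ * (q : ℤ) ^ 2)) ((q : ℤ) * (k₀ * (1 - (q : ℤ) ^ 3)))
    ((q : ℤ) * k₀) ((q : ℤ) * (k₀ * ((q : ℤ) + 1 - (q : ℤ) ^ 3))) with hy'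
  have hst : sgm f t = te chevD4 ζ y' := by rw [ht, he₁, hsgte]
  have hconjn : ∀ z : GL chevD4.Idx L, sgm f (g * z * g⁻¹) = g * (n * sgm f z * n⁻¹) * g⁻¹ := fun z => by
    rw [map_mul, map_mul, map_inv, hn]; group
  have hnt : n * te chevD4 ζ y' * n⁻¹ = te chevD4 ζ e₁ := by
    have h1 := (htw _ h₀.2).2
    rw [hext, hconjn, hst] at h1
    exact mul_left_cancel (mul_right_cancel h1)
  obtain ⟨W, v, d₁, u, hv, hd₁, hu, en, eL, ecu, ecv⟩ := conj_te D4.struct okNeg_D4 ζ hnG hnt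
  have hroot : ∀ (W' : List (Fin chevD4.rank)) (y z : Fin chevD4.rank → ℤ),
      te chevD4 ζ (matL chevD4 W' *ᵥ y) = te chevD4 ζ z →
      ∀ s, ζ ^ chiZ chevD4 (D4.struct.wpL W' s) z = ζ ^ chiZ chevD4 s y := fun W' y z h s => by
    have h1 := (tG_eq_iff ζ _ _).1 h (D4.struct.wpL W' s)
    rw [chiZ_wpL] at h1
    exact h1.symm
  have hregy' : ∀ s : Fin chevD4.nroots, ζ ^ chiZ chevD4 s y' ≠ 1 := fun s => by
    rw [← hroot W y' e₁ eL s]; exact hreg _
  have hzd : ∀ v v' : ℤ, k₀ * Mi ∣ v - v' → ζ ^ v = ζ ^ v' := fun v v' h => by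
    rw [hkM] at h
    rwa [← div_eq_one, div_eq_mul_inv, ← _root_.zpow_neg, ← _root_.zpow_add, ← sub_eq_add_neg,
      ← orderOf_dvd_iff_zpow_eq_one]
  have hbeta : te chevD4 ζ (matL chevD4 wordBeta *ᵥ y') = te chevD4 ζ e₁ := by
    rw [hy', matL_wordBeta_mulVec, he₁, te, te]
    congr 1
    refine funext fun i => ?_
    change Fin 4 at i
    fin_cases i
    · exact hzd _ _ ⟨1, by show ((q : ℤ) * (k₀ * (q : ℤ) ^ 2) - (q : ℤ) * (k₀ * (1 - (q : ℤ) ^ 3))) - k₀ = _; rw [hMi]; ring⟩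
    · exact hzd _ _ ⟨1, by show (-((q : ℤ) * (k₀ * (1 - (q : ℤ) ^ 3)))) - k₀ * (1 - (q : ℤ) ^ 3) = _; rw [hMi]; ring⟩
    · exact hzd _ _ ⟨1, by show ((q : ℤ) * k₀ - (q : ℤ) * (k₀ * (1 - (q : ℤ) ^ 3))) - k₀ * ((q : ℤ) + 1 - (q : ℤ) ^ 3) = _; rw [hMi]; ring⟩
    · exact hzd _ _ ⟨0, by show ((q : ℤ) * (k₀ * ((q : ℤ) + 1 - (q : ℤ) ^ 3)) - (q : ℤ) * (k₀ * (1 - (q : ℤ) ^ 3))) - k₀ * (q : ℤ) ^ 2 = _; rw [hMi]; ring⟩
  have hwW : D4.struct.wpL W = D4.struct.wpL wordBeta := by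
    have h1 : D4.struct.wpL (W ++ wordBeta) = 1 := by
      refine hstab _ fun s => ?_
      have e : D4.struct.wpL (W ++ wordBeta) = D4.struct.wpL W * D4.struct.wpL wordBeta := by simp [Struct.wpL]
      rw [e, Equiv.Perm.mul_apply, hroot W y' e₁ eL, ← hroot wordBeta y' e₁ hbeta,
        ← Equiv.Perm.mul_apply, wordBeta_inv, Equiv.Perm.one_apply]
    have e : D4.struct.wpL (W ++ wordBeta) = D4.struct.wpL W * D4.struct.wpL wordBeta := by simp [Struct.wpL]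
    rw [e] at h1
    calc D4.struct.wpL W = D4.struct.wpL W * (D4.struct.wpL wordBeta * D4.struct.wpL wordBeta) := by
          rw [wordBeta_inv, mul_one]
      _ = D4.struct.wpL wordBeta := by rw [← mul_assoc, h1, one_mul]
  rw [eq_one_of_commute_te D4.struct ζ e₁ hreg hv ecv,
    eq_one_of_commute_te D4.struct ζ y' hregy' (D4.struct.UPsi_le _ hu) ecu, one_mul, mul_one] at en
  have hnconj : ∀ e : Fin chevD4.rank → ℤ,
      n * te chevD4 ζ e * n⁻¹ = te chevD4 ζ (matL chevD4 wordBeta *ᵥ e) := by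
    intro e
    rw [en, show d₁ * D4.struct.nL L W * te chevD4 ζ e * (d₁ * D4.struct.nL L W)⁻¹ =
      d₁ * (D4.struct.nL L W * te chevD4 ζ e * (D4.struct.nL L W)⁻¹) * d₁⁻¹ by group, nL_conj_te,
      diag_comm D4.struct hd₁ (te_mem D4.struct ζ _), mul_inv_cancel_right, tG_eq_iff]
    intro s
    obtain ⟨r, rfl⟩ := (D4.struct.wpL W).surjective s
    rw [chiZ_wpL, hwW, chiZ_wpL]
  refine ⟨Subgroup.zpowers h₀, inferInstance, by rw [Nat.card_zpowers, hord], ?_⟩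
  refine le_antisymm (fun z hz => ?_) (fun z hz => ?_)
  · obtain ⟨hzG, hzfix⟩ := htw _ z.2
    have hzc := Subgroup.mem_centralizer_iff.1 hz h₀ (Subgroup.mem_zpowers _)
    have hzt : g⁻¹ * ext (L := L) (z : GL chevD4.Idx K) * g * t *
        (g⁻¹ * ext (L := L) (z : GL chevD4.Idx K) * g)⁻¹ = t := by
      have h1 := congrArg (fun a : ↥(twistedD4 K q) => ext (L := L) (a : GL chevD4.Idx K)) hzc
      simp only [Subgroup.coe_mul, map_mul, hext] at h1
      set Z := ext (L := L) (z : GL chevD4.Idx K)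
      rw [show g⁻¹ * Z * g * t * (g⁻¹ * Z * g)⁻¹ = g⁻¹ * (Z * (g * t * g⁻¹)) * Z⁻¹ * g by group, ← h1]
      group
    obtain ⟨W₁, v', d', u', hv', hd', hu', ez, eL', ecu', ecv'⟩ :=
      conj_te D4.struct okNeg_D4 ζ (mul_mem (mul_mem (inv_mem hgG) hzG) hgG) hzt
    rw [eq_one_of_commute_te D4.struct ζ e₁ hreg hv' ecv',
      eq_one_of_commute_te D4.struct ζ e₁ hreg (D4.struct.UPsi_le _ hu') ecu', one_mul, mul_one] at ez
    have hW1 := hstab W₁ (hroot W₁ e₁ e₁ eL')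
    have hdiag : g⁻¹ * ext (L := L) (z : GL chevD4.Idx K) * g ∈ chevD4.diagonalSubgroup L := by
      rw [ez]; exact mul_mem hd' (D4.struct.nL_mem_diag _ W₁ rfl hW1)
    rw [D4.struct.ok.diagonalSubgroup_eq] at hdiag
    obtain ⟨c, hc⟩ := hdiag
    obtain ⟨ye, rfl⟩ := exists_exponents hgen c
    change te chevD4 ζ ye = _ at hc
    have hzg : ext (L := L) (z : GL chevD4.Idx K) = g * te chevD4 ζ ye * g⁻¹ := by rw [hc]; group
    rw [eq_v4 ye] at hzg
    set a := ye ⟨0, by decide +kernel⟩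
    set b := ye ⟨1, by decide +kernel⟩
    set cc := ye ⟨2, by decide +kernel⟩
    set d := ye ⟨3, by decide +kernel⟩
    rw [hzg, hconjn, hsgte, hnconj, matL_wordBeta_mulVec] at hzfix
    have hfix := mul_left_cancel (mul_right_cancel hzfix)
    rw [te, te, ← mul_inv_eq_one, ← map_inv, ← map_mul] at hfix
    set A := ζ ^ a with hAd
    set B := ζ ^ b with hBd
    set Cc := ζ ^ cc with hCd
    set E := ζ ^ d with hEd
    set k1 := E ^ q * (B ^ q)⁻¹ * A⁻¹ with hk1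
    set k2 := (B ^ q)⁻¹ * B⁻¹ with hk2
    set k3 := A ^ q * (B ^ q)⁻¹ * Cc⁻¹ with hk3
    set k4 := Cc ^ q * (B ^ q)⁻¹ * E⁻¹ with hk4
    have hk : Ok.tG chevD4 L (v4 k1 k2 k3 k4) = 1 := by
      rw [← hfix]
      congr 1
      refine funext fun i => ?_
      simp only [Pi.mul_apply, Pi.inv_apply, zc]
      change Fin 4 at i
      fin_cases i <;> simp [v4, hk1, hk2, hk3, hk4, hAd, hBd, hCd, hEd, hpw, _root_.zpow_sub,
        _root_.zpow_neg, mul_comm, mul_left_comm]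
    have hker := (St.tG_eq_one_iff _).1 hk
    have r23 := hker ⟨23, by decide +kernel⟩
    have r18 := hker ⟨18, by decide +kernel⟩
    have r13 := hker ⟨13, by decide +kernel⟩
    have r12 := hker ⟨12, by decide +kernel⟩
    have r14 := hker ⟨14, by decide +kernel⟩
    rw [prod_v4, show nv 23 = (0, 1, 0, 0) by decide +kernel] at r23
    rw [prod_v4, show nv 18 = (2, -1, 0, 0) by decide +kernel] at r18
    rw [prod_v4, show nv 13 = (0, -1, 2, 0) by decide +kernel] at r13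
    rw [prod_v4, show nv 12 = (0, -1, 0, 2) by decide +kernel] at r12
    rw [prod_v4, show nv 14 = (-1, 2, -1, -1) by decide +kernel] at r14
    simp at r23
    simp [r23] at r18 r13 r12 r14
    have hsq : ∀ k : Lˣ, k ^ 2 = 1 → k ^ q = k := fun k hk => Units.ext (by
      have : (k : L) ^ 2 = 1 := by rw [← Units.val_pow_eq_pow_val, hk, Units.val_one]
      rw [Units.val_pow_eq_pow_val, ← hf]
      rcases sq_eq_one_iff.1 this with e | e <;> simp [e])
    have cg1 : ∀ x y z : Lˣ, x⁻¹ * (y⁻¹ * z⁻¹) = 1 → x * y * z = 1 := fun x y z h => by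
      rw [← _root_.mul_inv, ← _root_.mul_inv, inv_eq_one] at h
      rwa [mul_assoc]
    have cg2 : ∀ x y z : Lˣ, x * y = z * (x * y * z⁻¹) := fun x y z => by
      rw [mul_comm z, inv_mul_cancel_right]
    have hprod : k1 * k3 * k4 = 1 := cg1 _ _ _ (by simpa [mul_assoc] using r14)
    have hk1i : k1⁻¹ = k1 := inv_eq_of_mul_eq_one_left (by rw [← pow_two]; exact r18)
    have hk3i : k3⁻¹ = k3 := inv_eq_of_mul_eq_one_left (by rw [← pow_two]; exact r13)
    have hk4i : k4⁻¹ = k4 := inv_eq_of_mul_eq_one_left (by rw [← pow_two]; exact r12)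
    have h134 : k1 * k3 = k4 := by rw [← hk4i]; exact eq_inv_of_mul_eq_one_left hprod
    have h341 : k3 * k4 = k1 := by
      rw [← hk1i]; exact eq_inv_of_mul_eq_one_left (by rw [← hprod]; ac_rfl)
    have h413 : k4 * k1 = k3 := by
      rw [← hk3i]; exact eq_inv_of_mul_eq_one_left (by rw [← hprod]; ac_rfl)
    have hj : Ok.tG chevD4 L (v4 k4 1 k1 k3) = 1 := by
      have h1 := sgm_tG f hf k1 k2 k3 k4
      rw [hk, map_one, hsq k1 r18, hsq k3 r13, hsq k4 r12, r23, one_pow] at h1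
      exact h1.symm
    have hB2 : (B ^ q)⁻¹ = B := mul_inv_eq_one.1 (hk2 ▸ r23)
    have hA2 : A ^ q * B = Cc * k3 := by rw [hk3, hB2]; exact cg2 _ _ _
    have hC2 : Cc ^ q * B = E * k4 := by rw [hk4, hB2]; exact cg2 _ _ _
    have hE2 : E ^ q * B = A * k1 := by rw [hk1, hB2]; exact cg2 _ _ _
    set A2 := A * k4
    set C2 := Cc * k1
    set E2 := E * k3
    have q1 : A2 ^ q * B = C2 := by
      show (A * k4) ^ q * B = Cc * k1
      rw [mul_pow, hsq k4 r12, mul_right_comm, hA2, mul_assoc, h341]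
    have q2 : C2 ^ q * B = E2 := by
      show (Cc * k1) ^ q * B = E * k3
      rw [mul_pow, hsq k1 r18, mul_right_comm, hC2, mul_assoc, h413]
    have q3 : E2 ^ q * B = A2 := by
      show (E * k3) ^ q * B = A * k4
      rw [mul_pow, hsq k3 r13, mul_right_comm, hE2, mul_assoc, h134]
    have hBB : B ^ q * B = 1 := by
      conv_lhs => arg 2; rw [← hB2]
      rw [mul_inv_cancel]
    have q4 : E2 = A2 ^ (q * q) := by
      rw [← q2, ← q1, mul_pow, mul_assoc, hBB, mul_one, ← pow_mul]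
    have q5 : A2 ^ (q * q * q) * B = A2 := by rw [pow_mul, ← q4, q3]
    obtain ⟨j, hj2⟩ := Subgroup.mem_zpowers_iff.1 (hgen A2)
    have hBe : B = ζ ^ (j * (1 - (q : ℤ) ^ 3)) := by
      rw [← hj2, hq3, ← zpow_natCast, ← _root_.zpow_mul] at q5
      rw [mul_sub, mul_one, _root_.zpow_sub, eq_mul_inv_iff_mul_eq, mul_comm B, ← q5]
      push_cast
      rfl
    have hkj : k₀ ∣ j := by
      have h1 : ζ ^ (j * ((1 - (q : ℤ) ^ 3) * ((q : ℤ) + 1))) = 1 := by
        rw [← hBB, hBe, hpw, ← _root_.zpow_add]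
        congr 1
        ring
      rw [← orderOf_dvd_iff_zpow_eq_one, ← hkM, show j * ((1 - (q : ℤ) ^ 3) * ((q : ℤ) + 1)) = -j * Mi by
        rw [hMi]; ring] at h1
      exact dvd_neg.1 ((mul_dvd_mul_iff_right (by
        rw [hMi]
        have : (8 : ℤ) ≤ (q : ℤ) ^ 3 := by exact_mod_cast Nat.pow_le_pow_left hq2 3
        exact mul_ne_zero (by linarith) (by omega))).1 h1)
    obtain ⟨i₀, rfl⟩ := hkj
    have hZ : te chevD4 ζ (v4 a b cc d) = t ^ i₀ := by
      rw [ht, te, te, ← map_zpow]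
      have e : zc ζ (v4 a b cc d) * v4 k4 1 k1 k3 = zc ζ e₁ ^ i₀ := by
        rw [hcs]
        refine funext fun i => ?_
        change Fin 4 at i
        have hC3 : C2 = C₁ ^ i₀ := by
          rw [← q1, ← hj2, hBe, hpw, hC₁, ← _root_.zpow_add, ← _root_.zpow_mul]
          congr 1
          ring
        have hE3 : E2 = E₁ ^ i₀ := by
          rw [q4, ← hj2, ← zpow_natCast, ← _root_.zpow_mul, hE₁, ← _root_.zpow_mul]
          congr 1
          push_cast
          ring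
        have hA3 : A2 = ξ ^ i₀ := by rw [← hj2, hξ, ← _root_.zpow_mul]
        have hB3 : B = U ^ i₀ := by
          rw [hBe, hUdef, ← _root_.zpow_mul]
          congr 1
          ring
        fin_cases i
        · exact hA3
        · show B * 1 = _
          rw [mul_one]; exact hB3
        · exact hC3
        · exact hE3
      rw [← e, map_mul, hj, mul_one]
    refine Subgroup.mem_zpowers_iff.2 ⟨i₀, Subtype.ext (ext_injective (L := L) ?_)⟩
    rw [hzg, hZ, SubgroupClass.coe_zpow, map_zpow, hext, conj_zpow]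
  · rw [Subgroup.mem_centralizer_iff]
    intro y hy
    obtain ⟨i, rfl⟩ := Subgroup.mem_zpowers_iff.1 hy
    obtain ⟨i', rfl⟩ := Subgroup.mem_zpowers_iff.1 hz
    exact (Commute.refl h₀).zpow_zpow i i'

end Cfsg.Lib.Chev.TriTorus
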