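import Cfsg.Agent.Chev.TriTorus.Arith
import Cfsg.Agent.Chev.Tw.Inst
import Cfsg.Agent.Chev.CyclicTorus.Conj
import Cfsg.Agent.Chev.St.Center

/-! The triality endomorphism over a field, its action on the torus, and extension of scalars. -/

set_option autoImplicit false
set_option linter.unusedSectionVars false
set_option linter.style.haveILetI false
set_option maxHeartbeats 800000

open Cfsg.Lie

namespace Cfsg.Lib.Chev.TriTorus

open Matrix Cfsg.Lib.CyclicTorus

theorem tw_okAut : D4.tw.G.okAut D4.cert = true := by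
  have := D4.tw_ok
  simp only [TwDat.okAll, Bool.and_eq_true] at this
  exact this.1.1.1.1.1.1.1

variable {L : Type*} [Field L] (f : L →+* L)

/-- The triality endomorphism. -/
noncomputable def sgm : GL chevD4.Idx L →* GL chevD4.Idx L :=
  (GTab.glHom D4.struct.ok tw_okAut).comp (Matrix.GeneralLinearGroup.map f)

theorem sgm_xG {r : ℕ} (hr : r < chevD4.nroots) (t : L) :
    sgm f (D4.struct.ok.xG r t) =
      D4.struct.ok.xG (D4.tw.G.rho chevD4.rank r) ((D4.tw.G.eps chevD4.rank r : L) * f t) := by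
  have e : Matrix.GeneralLinearGroup.map f (D4.struct.ok.xG r t) = D4.struct.ok.xG r (f t) :=
    Units.ext (Ok.map_x chevD4 f r t)
  rw [sgm, MonoidHom.comp_apply, e, GTab.glHom_xG D4.struct.ok tw_okAut hr]

theorem sgm_group {g : GL chevD4.Idx L} (hg : g ∈ chevD4.group L) : sgm f g ∈ chevD4.group L := by
  have hle : chevD4.group L ≤ (chevD4.group L).comap (sgm f) := by
    refine (Subgroup.closure_le _).2 ?_
    rintro x ⟨r, t, hx⟩
    have hx' : x = D4.struct.ok.xG r.val t := D4.struct.ok.eq_xG (by rw [hx]; simp [ChevalleyDatum.x, r.isLt])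
    show sgm f x ∈ chevD4.group L
    rw [hx', sgm_xG f r.isLt]
    exact D4.struct.ok.xG_mem_group _ _
  exact hle hg

theorem sgm_nG (i : Fin chevD4.rank) (t : L) :
    sgm f (D4.struct.ok.nG (chevD4.simple i) t) =
      D4.struct.ok.nG (([13, 14, 12, 18] : List ℕ).getD i 0) (f t) := by
  have h : ∀ j : Fin 4, chevD4.simple j.val < chevD4.nroots ∧ chevD4.neg (chevD4.simple j.val) < chevD4.nroots ∧
      D4.tw.G.rho chevD4.rank (chevD4.simple j.val) = ([13, 14, 12, 18] : List ℕ).getD j.val 0 ∧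
      D4.tw.G.rho chevD4.rank (chevD4.neg (chevD4.simple j.val)) =
        chevD4.neg (([13, 14, 12, 18] : List ℕ).getD j.val 0) ∧
      D4.tw.G.eps chevD4.rank (chevD4.simple j.val) = 1 ∧
      D4.tw.G.eps chevD4.rank (chevD4.neg (chevD4.simple j.val)) = 1 := by decide +kernel
  obtain ⟨h1, h2, h3, h4, h5, h6⟩ := h i
  rw [Ok.nG, Ok.nG, map_mul, map_mul, sgm_xG f h1, sgm_xG f h2, h3, h4, h5, h6, map_neg, map_inv₀]
  simp

theorem sgm_hG (i : Fin chevD4.rank) (t : L) :
    sgm f (D4.struct.ok.hG (chevD4.simple i) t) =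
      D4.struct.ok.hG (([13, 14, 12, 18] : List ℕ).getD i 0) (f t) := by
  rw [Ok.hG, Ok.hG, map_mul, sgm_nG, sgm_nG, map_neg, map_one]

theorem v4_split {M : Type*} [CommMonoid M] (a b c d : M) :
    v4 a b c d = v4 a 1 1 1 * v4 1 b 1 1 * v4 1 1 c 1 * v4 1 1 1 d := by
  simp [v4_mul]

theorem sgm_tG {q : ℕ} (hf : ∀ t, f t = t ^ q) (a b c d : Lˣ) :
    sgm f (Ok.tG chevD4 L (v4 a b c d)) = Ok.tG chevD4 L (v4 (d ^ q) (b ^ q) (a ^ q) (c ^ q)) := by
  have e : ∀ (i : Fin chevD4.rank) (j : Fin chevD4.rank), ([13, 14, 12, 18] : List ℕ).getD i 0 = chevD4.simple j →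
      ∀ t : Lˣ, sgm f (Ok.tG chevD4 L (Pi.mulSingle i t)) = Ok.tG chevD4 L (Pi.mulSingle j (t ^ q)) := by
    intro i j hij t
    rw [← D4.struct.ok.hG_simple_eq_tG, sgm_hG, hij, hf, ← Units.val_pow_eq_pow_val,
      D4.struct.ok.hG_simple_eq_tG]
  have h0 := e ⟨0, by decide +kernel⟩ ⟨2, by decide +kernel⟩ (by decide +kernel) a
  have h1 := e ⟨1, by decide +kernel⟩ ⟨1, by decide +kernel⟩ (by decide +kernel) b
  have h2 := e ⟨2, by decide +kernel⟩ ⟨3, by decide +kernel⟩ (by decide +kernel) c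
  have h3 := e ⟨3, by decide +kernel⟩ ⟨0, by decide +kernel⟩ (by decide +kernel) d
  rw [(mulSingle_v4 _).1, (mulSingle_v4 _).2.2.1] at h0
  rw [(mulSingle_v4 _).2.1, (mulSingle_v4 _).2.1] at h1
  rw [(mulSingle_v4 _).2.2.1, (mulSingle_v4 _).2.2.2] at h2
  rw [(mulSingle_v4 _).2.2.2, (mulSingle_v4 _).1] at h3
  rw [v4_split a, map_mul, map_mul, map_mul, map_mul, map_mul, map_mul, h0, h1, h2, h3, ← map_mul, ← map_mul,
    ← map_mul]
  simp [v4_mul]

variable {K : Type*} [Field K] [Algebra K L]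

/-- Extension of scalars. -/
noncomputable def ext : GL chevD4.Idx K →* GL chevD4.Idx L :=
  Matrix.GeneralLinearGroup.map (algebraMap K L)

theorem ext_injective : Function.Injective (ext (K := K) (L := L)) := by
  intro a b hab
  refine Units.ext (Matrix.ext fun i j => (algebraMap K L).injective ?_)
  simpa [ext, Matrix.GeneralLinearGroup.map] using
    congrArg (fun g : GL chevD4.Idx L => (g : Matrix chevD4.Idx chevD4.Idx L) i j) hab

theorem ext_xG (r : ℕ) (t : K) :
    ext (L := L) (D4.struct.ok.xG r t) = D4.struct.ok.xG r (algebraMap K L t) :=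
  Units.ext (Ok.map_x chevD4 (algebraMap K L) r t)

theorem ext_tG (c : Fin chevD4.rank → Kˣ) :
    ext (L := L) (Ok.tG chevD4 K c) =
      Ok.tG chevD4 L (fun i => Units.map (algebraMap K L : K →* L) (c i)) := by
  refine Units.ext ?_
  show Matrix.map (Ok.tG chevD4 K c : Matrix chevD4.Idx chevD4.Idx K) (algebraMap K L) = _
  rw [Ok.tG_val, Ok.tG_val, Matrix.diagonal_map (map_zero _)]
  congr 1
  funext x
  rcases x with a | s
  · simp
  · simp [Sum.elim_inr, Units.coe_prod, map_prod, Units.val_zpow_eq_zpow_val, map_zpow₀]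

theorem wG_mem_group {w : List (ℕ × L)} : D4.struct.ok.wG w ∈ chevD4.group L :=
  list_prod_mem fun g hg => by
    obtain ⟨p, -, rfl⟩ := List.mem_map.1 hg
    exact D4.struct.ok.xG_mem_group _ _

theorem twisted_ext {q : ℕ} (hf : ∀ t, f t = t ^ q) (hK : ∀ t : K, ((t ^ q) ^ q) ^ q = t)
    {g : GL chevD4.Idx K} (hg : g ∈ twistedD4 K q) :
    ext (L := L) g ∈ chevD4.group L ∧ sgm f (ext (L := L) g) = ext (L := L) g := by
  rw [twistedD4, D4.struct.genSubgroup_eq] at hg
  have key : ∀ r s u : ℕ, (D4.tw.G.rho chevD4.rank r = s ∧ D4.tw.G.rho chevD4.rank s = u ∧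
      D4.tw.G.rho chevD4.rank u = r) → (D4.tw.G.eps chevD4.rank r = 1 ∧ D4.tw.G.eps chevD4.rank s = 1 ∧
      D4.tw.G.eps chevD4.rank u = 1) → r < 24 → s < 24 → u < 24 → TwDat.commOK chevD4 r s = true →
      TwDat.commOK chevD4 r u = true → ∀ t : L, ((t ^ q) ^ q) ^ q = t →
      sgm f (D4.struct.ok.xG r t * (D4.struct.ok.xG s (t ^ q) * D4.struct.ok.xG u (t ^ q ^ 2))) =
        D4.struct.ok.xG r t * (D4.struct.ok.xG s (t ^ q) * D4.struct.ok.xG u (t ^ q ^ 2)) := by
    rintro r s u ⟨a1, a2, a3⟩ ⟨e1, e2, e3⟩ hr hs hu c1 c2 t ht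
    rw [map_mul, map_mul, sgm_xG f hr, sgm_xG f hs, sgm_xG f hu, a1, a2, a3, e1, e2, e3, hf, hf, hf]
    simp only [Int.cast_one, one_mul]
    rw [← pow_mul t (q ^ 2) q, show q ^ 2 * q = q * q * q by ring, pow_mul t (q * q) q, pow_mul t q q, ht,
      ← pow_mul t q q, ← pow_two q]
    have h1 := D4.struct.commute_of_commOK hr hs c1 t (t ^ q)
    have h2 := D4.struct.commute_of_commOK hr hu c2 t (t ^ q ^ 2)
    rw [(h1.mul_right h2).eq, mul_assoc]
  have hle : Subgroup.closure {g : GL chevD4.Idx K | ∃ w ∈ d4Words K q, D4.struct.ok.wG w = g} ≤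
      (chevD4.group L ⊓ (sgm f).eqLocus (MonoidHom.id _)).comap (ext (L := L)) := by
    refine (Subgroup.closure_le _).2 ?_
    rintro x ⟨w, hw, rfl⟩
    have e : ext (L := L) (D4.struct.ok.wG w) =
        D4.struct.ok.wG (w.map fun p => (p.1, algebraMap K L p.2)) := by
      rw [Ok.wG, map_list_prod, List.map_map, Ok.wG, List.map_map]
      exact congrArg List.prod (List.map_congr_left fun p _ => ext_xG _ _)
    refine Subgroup.mem_inf.2 ⟨by rw [e]; exact wG_mem_group, ?_⟩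
    show sgm f _ = ext (L := L) (D4.struct.ok.wG w)
    rw [e]
    rcases hw with ⟨t, ht, r, hr, rfl⟩ | ⟨t, rs, hrs, rfl⟩
    · have hfacts : D4.tw.G.rho chevD4.rank 14 = 14 ∧ D4.tw.G.rho chevD4.rank 9 = 9 ∧
          D4.tw.G.eps chevD4.rank 14 = 1 ∧ D4.tw.G.eps chevD4.rank 9 = 1 := by decide +kernel
      simp only [d4p2, d4m2, List.mem_cons, List.not_mem_nil, or_false] at hr
      rcases hr with rfl | rfl
      · simp [Ok.wG, sgm_xG f (show 14 < chevD4.nroots by decide +kernel), hfacts.1, hfacts.2.2.1, hf, ← map_pow, ht]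
      · simp [Ok.wG, sgm_xG f (show 9 < chevD4.nroots by decide +kernel), hfacts.2.1, hfacts.2.2.2, hf, ← map_pow, ht]
    · have ht3 : ((algebraMap K L t ^ q) ^ q) ^ q = algebraMap K L t := by
        rw [← map_pow, ← map_pow, ← map_pow, hK]
      simp only [d4p1, d4p3, d4p4, d4m1, d4m3, d4m4, List.mem_cons, List.not_mem_nil, or_false] at hrs
      rcases hrs with rfl | rfl <;>
      · simp only [Ok.wG, List.map_cons, List.map_nil, List.prod_cons, List.prod_nil, mul_one, map_pow]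
        exact key _ _ _ (by decide +kernel) (by decide +kernel) (by decide +kernel) (by decide +kernel)
          (by decide +kernel) (by decide +kernel) (by decide +kernel) _ ht3
  exact hle hg

theorem tG_eq_iff (ζ : Lˣ) (y z : Fin chevD4.rank → ℤ) :
    te chevD4 ζ y = te chevD4 ζ z ↔ ∀ s : Fin chevD4.nroots, ζ ^ chiZ chevD4 s y = ζ ^ chiZ chevD4 s z := by
  rw [te, te, ← mul_inv_eq_one, ← map_inv, ← map_mul, St.tG_eq_one_iff]
  refine forall_congr' fun s => ?_
  simp only [Pi.mul_apply, Pi.inv_apply, _root_.mul_zpow, _root_.inv_zpow, Finset.prod_mul_distrib, Finset.prod_inv_distrib,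
    prod_zc, mul_inv_eq_one]

theorem chiZ_eq_sum (s : ℕ) (a b c d : ℤ) : chiZ chevD4 s (v4 a b c d) =
    (nv s).1 * a + (nv s).2.1 * b + (nv s).2.2.1 * c + (nv s).2.2.2 * d := by
  show (∑ j : Fin 4, chevD4.cartan j.val s * v4 a b c d j) = _
  rw [Fin.sum_univ_four]
  rfl

theorem matL_beta : ∀ i j : Fin 4, matL chevD4 [⟨1, by decide +kernel⟩, ⟨3, by decide +kernel⟩, ⟨2, by decide +kernel⟩,
      ⟨0, by decide +kernel⟩, ⟨1, by decide +kernel⟩, ⟨0, by decide +kernel⟩, ⟨2, by decide +kernel⟩,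
      ⟨3, by decide +kernel⟩, ⟨1, by decide +kernel⟩] ⟨i.val, i.isLt⟩ ⟨j.val, j.isLt⟩ =
    (([[1, -1, 0, 0], [0, -1, 0, 0], [0, -1, 1, 0], [0, -1, 0, 1]] : List (List ℤ)).getD i []).getD j 0 := by
  decide +kernel

/-- The word of the reflection in the highest root. -/
def wordBeta : List (Fin chevD4.rank) :=
  [⟨1, by decide +kernel⟩, ⟨3, by decide +kernel⟩, ⟨2, by decide +kernel⟩, ⟨0, by decide +kernel⟩,
    ⟨1, by decide +kernel⟩, ⟨0, by decide +kernel⟩, ⟨2, by decide +kernel⟩, ⟨3, by decide +kernel⟩,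
    ⟨1, by decide +kernel⟩]

theorem matL_wordBeta_mulVec (a b c d : ℤ) :
    matL chevD4 wordBeta *ᵥ v4 a b c d = v4 (a - b) (-b) (c - b) (d - b) := by
  refine funext fun i => ?_
  change Fin 4 at i
  show (∑ j : Fin 4, matL chevD4 wordBeta ⟨i.val, i.isLt⟩ ⟨j.val, j.isLt⟩ * (![a, b, c, d] : Fin 4 → ℤ) j) =
    (![a - b, -b, c - b, d - b] : Fin 4 → ℤ) i
  simp only [wordBeta, matL_beta]
  fin_cases i <;> simp [Fin.sum_univ_four] <;> ring

theorem wordBeta_inv : D4.struct.wpL wordBeta * D4.struct.wpL wordBeta = 1 := by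
  refine Equiv.ext fun r => Fin.ext ?_
  rw [Equiv.Perm.mul_apply, D4.struct.wpL_val, D4.struct.wpL_val]
  have : ∀ s : Fin 24, D4.cert.wL (wordBeta.map Fin.val) (D4.cert.wL (wordBeta.map Fin.val) s.val) = s.val := by
    decide +kernel
  exact this r

end Cfsg.Lib.Chev.TriTorus
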